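import Mathlib

/-!
# An operator of order 20 on `ℤ⁸` (helper343, for S5923)

If `(T⁸ - T⁶ + T⁴ - T² + 1) x = 0` for some `x ≠ 0` then `T⁸ - T⁶ + T⁴ - T² + 1 = 0` (the polynomial is the cyclotomic
polynomial of degree 8, irreducible).
-/

set_option autoImplicit false

namespace Cfsg.Agent.H343.L5

open Polynomial

theorem cyc_four (R : Type*) [CommRing R] : cyclotomic 4 R = X ^ 2 + 1 := by
  have h := cyclotomic_expand_eq_cyclotomic Nat.prime_two (dvd_refl 2) R
  rw [cyclotomic_two] at h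
  norm_num at h
  exact h.symm

theorem cyc_twenty : cyclotomic 20 ℚ = X ^ 8 - X ^ 6 + X ^ 4 - X ^ 2 + 1 := by
  have h := cyclotomic_expand_eq_cyclotomic_mul Nat.prime_five (by norm_num : ¬ 5 ∣ 4) ℚ
  rw [cyc_four, map_add, map_pow, expand_X, map_one] at h
  norm_num at h
  have h0 : (X ^ 2 + 1 : ℚ[X]) ≠ 0 := by
    rw [← cyc_four]
    exact cyclotomic_ne_zero 4 ℚ
  apply mul_right_cancel₀ h0
  rw [← h]
  ring

theorem mat_cyc {M : Matrix (Fin 8) (Fin 8) ℤ} {x : Fin 8 → ℤ} (hx : x ≠ 0)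
    (h : (M ^ 8 - M ^ 6 + M ^ 4 - M ^ 2 + 1).mulVec x = 0) : M ^ 8 - M ^ 6 + M ^ 4 - M ^ 2 + 1 = 0 := by
  set f := (Int.castRingHom ℚ).mapMatrix (m := Fin 8) with hf
  have hinj : Function.Injective f := by
    intro A B hAB
    ext i j
    have := congrFun (congrFun hAB i) j
    exact Int.cast_injective this
  set xq : Fin 8 → ℚ := fun i => (x i : ℚ) with hxq
  have hxq0 : xq ≠ 0 := by
    intro h0
    apply hx
    funext i
    have := congrFun h0 i
    simpa [hxq] using this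
  have hmap : ∀ A : Matrix (Fin 8) (Fin 8) ℤ, (f A).mulVec xq = fun i => ((A.mulVec x i : ℤ) : ℚ) := by
    intro A
    funext i
    simp [hf, hxq, Matrix.mulVec, dotProduct]
  have ha : aeval (f M) (cyclotomic 20 ℚ) = f (M ^ 8 - M ^ 6 + M ^ 4 - M ^ 2 + 1) := by
    rw [cyc_twenty]
    simp
  have hxa : (aeval (f M) (cyclotomic 20 ℚ)).mulVec xq = 0 := by
    rw [ha, hmap, h]
    funext i
    simp
  have hirr : Irreducible (cyclotomic 20 ℚ) := cyclotomic.irreducible_rat (by norm_num)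
  have hdvd : cyclotomic 20 ℚ ∣ (f M).charpoly := by
    by_contra hcon
    obtain ⟨u, v, huv⟩ := (hirr.coprime_iff_not_dvd.2 hcon : IsCoprime (cyclotomic 20 ℚ) (f M).charpoly)
    have h1 := congrArg (fun p => (aeval (f M) p).mulVec xq) huv
    simp only [map_add, map_mul, Matrix.aeval_self_charpoly, mul_zero, add_zero, map_one, Matrix.one_mulVec] at h1
    rw [← Matrix.mulVec_mulVec, hxa, Matrix.mulVec_zero] at h1
    exact hxq0 h1.symm
  have heq : (f M).charpoly = cyclotomic 20 ℚ := by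
    apply Polynomial.eq_of_monic_of_dvd_of_natDegree_le (cyclotomic.monic 20 ℚ) (Matrix.charpoly_monic _) hdvd
    rw [Matrix.charpoly_natDegree_eq_dim, natDegree_cyclotomic]
    decide
  apply hinj
  rw [← ha, ← heq, Matrix.aeval_self_charpoly, map_zero]

theorem end_cyc {T : Module.End ℤ (Fin 8 → ℤ)} {x : Fin 8 → ℤ} (hx : x ≠ 0)
    (h : (T ^ 8 - T ^ 6 + T ^ 4 - T ^ 2 + 1 : Module.End ℤ (Fin 8 → ℤ)) x = 0) : T ^ 8 - T ^ 6 + T ^ 4 - T ^ 2 + 1 = 0 := by
  set g := LinearMap.toMatrixAlgEquiv' (R := ℤ) (n := Fin 8) with hg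
  have hgT : g (T ^ 8 - T ^ 6 + T ^ 4 - T ^ 2 + 1) = g T ^ 8 - g T ^ 6 + g T ^ 4 - g T ^ 2 + 1 := by
    simp only [map_add, map_sub, map_pow, map_one]
  apply g.injective
  rw [map_zero, hgT]
  apply mat_cyc hx
  rw [← hgT]
  exact (LinearMap.toMatrix'_mulVec _ x).trans h

end Cfsg.Agent.H343.L5
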